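import Groth.Agent.H13Cartier.WeakAssAvoid
import Mathlib.Algebra.Category.ModuleCat.Sheaf.Limits
import Mathlib.Algebra.Homology.ShortComplex.ModuleCat

/-!
# Weakly associated points of modules on the small etale site
-/

set_option backward.isDefEq.respectTransparency false

universe u

open CategoryTheory CategoryTheory.Limits AlgebraicGeometry Opposite
open AlgSp Groth.Agent.H12AlgSp Groth.Agent.H13AlgSp Groth.Agent.H13Cartier

namespace Groth.Agent.H13WeakAss

variable {S : Scheme.{u}} {X : Sp S}

/-- Every prime of the functions on an affine chart is the prime of a point. -/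
theorem exists_primeAtPt {U : Scheme.{u}} [IsAffine U] (q : Ideal Γ(U, ⊤)) [q.IsPrime] :
    ∃ u : U, primeAtPt U u = q := by
  let hT := isAffineOpen_top U
  refine ⟨hT.fromSpec ⟨q, ‹_›⟩, ?_⟩
  have hu : hT.primeIdealOf ⟨hT.fromSpec ⟨q, ‹_›⟩, trivial⟩ = ⟨q, ‹_›⟩ := by
    have := hT.isOpenImmersion_fromSpec
    exact hT.fromSpec.isOpenEmbedding.injective (hT.fromSpec_primeIdealOf _)
  rw [hT.primeIdealOf_eq_map_closedPoint] at hu
  exact congrArg PrimeSpectrum.asIdeal hu

theorem annSect_zero (M : ModEt X) (E : EtOver X) : annSect (0 : sectModEt M E) = ⊤ :=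
  (Ideal.eq_top_iff_one _).mpr ((mem_annSect_iff _ _).mpr (smul_zero _))

/-- A nonzero section over an affine chart gives a weakly associated point. -/
theorem weakAssEt_nonempty_of_ne_zero {M : ModEt X} (E : EtOver X) [hE : IsAffine E.obj.left.left]
    {s : sectModEt M E} (hs : s ≠ 0) : (WeakAssEt M).Nonempty := by
  have hne : annSect s ≠ ⊤ := fun h => hs (by
    have h1 := (mem_annSect_iff s 1).mp (h ▸ Submodule.mem_top)
    rwa [map_one, one_smul] at h1)
  obtain ⟨m, hm, hle⟩ := Ideal.exists_le_maximal _ hne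
  obtain ⟨q, hq, -⟩ := Ideal.exists_minimalPrimes_le hle
  have := hq.1.1
  obtain ⟨u, hu⟩ := exists_primeAtPt q
  exact ⟨_, E, hE, u, rfl, s, hu.symm ▸ hq⟩

/-- A module on the small etale site with no sections over affine charts is zero. -/
theorem isZero_of_affine_sections {M : ModEt X}
    (h : ∀ (E : EtOver X), IsAffine E.obj.left.left → ∀ s : sectModEt M E, s = 0) : IsZero M := by
  have hall : ∀ (E : EtOver X) (s : sectModEt M E), s = 0 := by
    intro E s
    let ι := E.obj.left.left.affineOpens
    let Yi : ι → EtOver X := fun V => EtOver.mk ((yon S).map (openIncl E.obj.left V.1) ≫ E.obj.hom)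
      (repWith_comp ((repWith_yon_map_iff _ _).2 (inferInstanceAs (Etale V.1.ι))) E.property)
    let gi : ∀ V, Yi V ⟶ E := fun V => EtOver.homMk (openIncl E.obj.left V.1) rfl
    have hg : Presieve.ofArrows Yi gi ∈ etPre X E := by
      rw [ofArrows_mem_etPre_iff]
      intro x
      obtain ⟨V, hV⟩ := TopologicalSpace.Opens.mem_iSup.1 ((iSup_affineOpens_eq_top E.obj.left.left).ge (Set.mem_univ x))
      exact ⟨V, ⟨x, hV⟩, rfl⟩
    have hsh : Presieve.IsSheaf (etTop X) (M.val.presheaf ⋙ CategoryTheory.forget AddCommGrpCat) :=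
      (isSheaf_iff_isSheaf_of_type _ _).mp
        ((Presheaf.isSheaf_iff_isSheaf_forget (etTop X) M.val.presheaf (CategoryTheory.forget AddCommGrpCat)).mp M.isSheaf)
    refine ((hsh _ ((etPre X).generate_mem_toGrothendieck hg)).isSeparatedFor).ext ?_
    rintro Z f ⟨W, a, b, ⟨V⟩, rfl⟩
    have h1 : ∀ t : sectModEt M E, (M.val.presheaf.map (gi V).op) t = (0 : sectModEt M (Yi V)) :=
      fun t => h (Yi V) V.2 _
    change (M.val.presheaf.map (a ≫ gi V).op) s = (M.val.presheaf.map (a ≫ gi V).op) 0
    rw [map_zero, op_comp, Functor.map_comp, ConcreteCategory.comp_apply, h1 s]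
    exact map_zero _
  rw [IsZero.iff_id_eq_zero]
  apply SheafOfModules.hom_ext
  apply PresheafOfModules.hom_ext
  intro E
  apply ModuleCat.hom_ext
  exact LinearMap.ext fun s => hall E.unop s

theorem isZero_iff_weakAssEt_eq_empty (M : ModEt X) : IsZero M ↔ WeakAssEt M = ∅ := by
  constructor
  · intro h
    rw [Set.eq_empty_iff_forall_notMem]
    rintro _ ⟨E, hE, u, -, s, hs⟩
    have hs0 : s = 0 := by
      have := congrArg (fun φ : M ⟶ M => φ.val.app (op E) s) (h.eq_of_src (𝟙 M) 0)
      exact this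
    rw [hs0, annSect_zero] at hs
    exact hs.1.1.ne_top (top_le_iff.mp hs.1.2)
  · intro h
    refine isZero_of_affine_sections fun E hE s => ?_
    by_contra hs
    exact (weakAssEt_nonempty_of_ne_zero E hs).ne_empty h

/-- Weakly associated points in a short exact sequence. -/
theorem weakAssEt_subset (C : ShortComplex (ModEt X)) (hC : C.ShortExact) :
    WeakAssEt C.X₂ ⊆ WeakAssEt C.X₁ ∪ WeakAssEt C.X₃ ∧ WeakAssEt C.X₁ ⊆ WeakAssEt C.X₂ := by
  have := hC.mono_f
  have hev : ∀ E : EtOver X, Function.Injective ((SheafOfModules.evaluation _ (op E)).map C.f).hom ∧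
      ∀ s, ((SheafOfModules.evaluation _ (op E)).map C.g).hom s = 0 →
        ∃ m, ((SheafOfModules.evaluation _ (op E)).map C.f).hom m = s := by
    intro E
    let F := SheafOfModules.evaluation (OEtRing X) (op E)
    have : PreservesFiniteLimits F := inferInstance
    have : F.PreservesZeroMorphisms := ⟨fun _ _ => rfl⟩
    exact ⟨(ModuleCat.mono_iff_injective _).mp (F.map_mono C.f),
      (ShortComplex.moduleCat_exact_iff _).mp (hC.exact.map_of_mono_of_preservesKernel F hC.mono_f inferInstance)⟩
  constructor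
  · rintro x ⟨E, hE, u, hx, s, hs⟩
    let f' := ((SheafOfModules.evaluation _ (op E)).map C.f).hom
    let g' := ((SheafOfModules.evaluation _ (op E)).map C.g).hom
    have hle : annSect s ≤ annSect (g' s : sectModEt C.X₃ E) := fun a ha => by
      rw [mem_annSect_iff] at ha ⊢
      exact ((g'.map_smul (upΓ E a) s).symm.trans ((congrArg g' ha).trans (map_zero g')))
    by_cases hle' : annSect (g' s : sectModEt C.X₃ E) ≤ primeAtPt E.obj.left.left u
    · exact Or.inr ⟨E, hE, u, hx, g' s, ⟨hs.1.1, hle'⟩, fun r hr hru => hs.2 ⟨hr.1, hle.trans hr.2⟩ hru⟩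
    · obtain ⟨a, ha, hau⟩ := SetLike.not_le_iff_exists.mp hle'
      rw [mem_annSect_iff] at ha
      obtain ⟨m, hm⟩ := (hev E).2 (upΓ E a • s) ((g'.map_smul _ _).trans ha)
      have key : ∀ b, b ∈ annSect (m : sectModEt C.X₁ E) ↔ b * a ∈ annSect s := fun b => by
        rw [mem_annSect_iff, mem_annSect_iff, map_mul, mul_smul]
        constructor
        · intro hb
          rw [← hm]
          exact (f'.map_smul (upΓ E b) m).symm.trans ((congrArg f' hb).trans (map_zero f'))
        · intro hb
          refine (hev E).1 ?_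
          rw [← hm] at hb
          exact ((f'.map_smul (upΓ E b) m).trans hb).trans (map_zero f').symm
      refine Or.inl ⟨E, hE, u, hx, m, ⟨hs.1.1, fun b hb => ?_⟩, fun r hr hru => hs.2 ⟨hr.1, fun b hb => ?_⟩ hru⟩
      · exact (hs.1.1.mem_or_mem (hs.1.2 ((key b).mp hb))).resolve_right hau
      · exact hr.2 ((key b).mpr (Ideal.mul_mem_right _ _ hb))
  · rintro x ⟨E, hE, u, hx, m, hm⟩
    let f' := ((SheafOfModules.evaluation _ (op E)).map C.f).hom
    refine ⟨E, hE, u, hx, f' m, ?_⟩
    have : annSect (f' m : sectModEt C.X₂ E) = annSect m := by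
      ext a
      rw [mem_annSect_iff, mem_annSect_iff]
      exact ⟨fun h => (hev E).1 (((f'.map_smul _ _).trans h).trans (map_zero f').symm),
        fun h => (f'.map_smul _ _).symm.trans ((congrArg f' h).trans (map_zero f'))⟩
    rwa [this]

end Groth.Agent.H13WeakAss
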